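import Cfsg.Agent.SuzG2.Cert.G4A
import Cfsg.Agent.SuzG2.Cert.G4B
import Cfsg.Agent.SuzG2.Cert.G4C
import Cfsg.Agent.SuzG2.Cert.G4D
import Cfsg.Agent.SuzG2.Cert.G4E

set_option autoImplicit false
set_option maxRecDepth 100000

/-! The order bound for the presented group. -/

namespace CfsgLib.SuzG2

theorem finite_and_card_le : Finite setup.Grp ∧ Nat.card setup.Grp ≤ 251596800 := by
  have h0 := G4A.bound 1 ⟨setup.finite_letSub_nil, setup.card_letSub_nil⟩
  have h1 := G4B.bound _ h0
  have h2 := G4C.bound _ h1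
  have h3 := G4D.bound _ h2
  have h4 := G4E.bound _ h3
  have htop : setup.letSub G4E.enum.L = ⊤ := setup.letSub_all _ (by
    intro x hx
    have hx' : x < 6 := hx
    interval_cases x <;> decide +kernel)
  rw [htop] at h4
  haveI := h4.1
  refine ⟨Finite.of_equiv _ Subgroup.topEquiv.toEquiv, ?_⟩
  rw [← Nat.card_congr (Subgroup.topEquiv (G := setup.Grp)).toEquiv]
  exact h4.2.trans (by decide +kernel)

end CfsgLib.SuzG2
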